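import Mathlib
import Cfsg.Agent.Ppn.Defs
import Cfsg.Agent.Ppn.G2
import Cfsg.Agent.Chev.SzStruct
import Cfsg.Agent.Cust.PiHom

set_option autoImplicit false

namespace Cfsg.Agent.Ppn

open Cfsg Subgroup

/-- PROOF.  Transport to the matrix group `Sz F m` as in `Cust/PiHom.isoSuzuki_inverted`
(`Chev.SzField.of_fintype`, `Chev.Suz.lieEquiv`, `Good.of_equiv`), then `good_of_cit` with
`T = sylowAt p`, `E = Zp p` (`card_Zp`, `eight_le_q`, `centralizer_le_Qp`, `exists_sylow_eq`,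
`index_Qp`; `Zp` is central in `Qp`). -/
theorem good_Sz {K : Type*} [Group K] [Finite K] (h : Lie.IsoSuzuki K) : Good K := by
  obtain ⟨F, _, _, m, hm, hF, ⟨e⟩⟩ := h
  have := Chev.SzField.of_fintype hm hF
  let e' := e.trans (Chev.Suz.lieEquiv F).symm
  have := Finite.of_equiv _ e'.toEquiv
  refine Good.of_equiv e' (good_of_cit (fun t ht => ?_) (Chev.Suz.sylowAt (Chev.Suz.inf F))
    (Chev.Suz.Zp (Chev.Suz.inf F)) (Chev.Suz.Zp_le_Qp _) (fun x hx => by rw [← pow_two]; exact hx.2)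
    (fun x hx y hy => ?_) (by rw [Chev.Suz.card_Zp]; exact Chev.Suz.eight_le_q (F := F)) fun hp => ?_)
  · obtain ⟨p, hp⟩ := Chev.Suz.exists_mem_Qp_of_pow (g := t) (n := 1) (by
      rw [pow_one, ← ht, pow_orderOf_eq_one])
    exact (Chev.Suz.isPGroup_Qp p).to_le (Chev.Suz.centralizer_le_Qp hp (by
      rintro rfl
      simp at ht))
  · obtain ⟨b, rfl⟩ := Chev.Suz.mem_Zp_inf.1 hx
    obtain ⟨c, d, rfl⟩ := Chev.Suz.mem_Qp_inf.1 hy
    simp [Chev.Suz.uu_mul, add_comm]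
  · obtain ⟨p, h1⟩ := Chev.Suz.exists_le_Qp (P := ⊤) (hp.to_subgroup ⊤)
    have h2 := Chev.Suz.index_Qp p
    rw [top_le_iff.1 h1, index_top] at h2
    have h3 := Nat.eq_one_of_mul_eq_one_right h2.symm
    have : 0 < (2 ^ (2 * m + 1)) ^ 2 := by positivity
    omega

end Cfsg.Agent.Ppn
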